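import Groth.Agent.Conormal.Split
import Groth.Agent.Conormal.Maps
import Groth.Agent.OmegaLib.Compat

/-!
# The conormal sheaf of a section is the restricted sheaf of differentials
-/

universe u

open CategoryTheory CategoryTheory.Limits AlgebraicGeometry TopologicalSpace Opposite

set_option backward.isDefEq.respectTransparency false
set_option linter.style.haveILetI false

noncomputable section

namespace Groth.Agent.GrpOmega

open Groth.Agent.QC Groth.Agent.ModDesc Groth.Agent.Conormal Groth.Agent.OmegaLib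

/-- The map `C → i^*Ω` induced by a derivation exists. -/
theorem exists_conormalDiff {Z X Y : Scheme.{u}} (i : Z ⟶ X) [QuasiCompact i] {f : X ⟶ Y} {Ω : X.Modules}
    (d : OmegaSh.Der f Ω) :
    ∃ φ : Omega.conormal i ⟶ (Scheme.Modules.pullback i).obj Ω, OmegaSh.IsConormalDiff i d φ := by
  let P := (Scheme.Modules.pullback i).obj Ω
  let F : ∀ U : X.Opens, Γ(ClSub.idealMod i.ker, U) → Γ(P, i ⁻¹ᵁ U) := fun U s =>
    OmegaSh.pullSect i Ω U (d.app U (OmegaSh.idealSect i.ker U s))
  have hadd : ∀ U s t, F U (s + t) = F U s + F U t := fun U s t => by simp only [F, map_add]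
  have hlin : ∀ U (a : Γ(X, U)) s, F U (a • s) = i.app U a • F U s := fun U a s => by
    simp only [F]
    rw [idealSect_smul, app_mul, map_add, OmegaSh.pullSect_smul, OmegaSh.pullSect_smul, app_idealSect,
      zero_smul, add_zero]
  have hres : ∀ {V U : X.Opens} (h : V ≤ U) s,
      F V (res (ClSub.idealMod i.ker) h s) = res P (i.preimage_mono h) (F U s) := fun {V U} h s => by
    simp only [F]
    rw [idealSect_res, ← res_app]
    exact OmegaSh.pullSect_map i Ω h _
  let α : (ClSub.idealMod i.ker).presheaf ⟶ ((Scheme.Modules.pushforward i).obj P).presheaf :=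
    { app := fun O => AddCommGrpCat.ofHom (AddMonoidHom.mk' (F O.unop) (hadd O.unop))
      naturality := fun O O' e => by
        ext s
        exact hres e.unop.le s }
  let β : ClSub.idealMod i.ker ⟶ (Scheme.Modules.pushforward i).obj P :=
    ⟨PresheafOfModules.homMk α fun O a s => hlin O.unop a s⟩
  let adj := Scheme.Modules.pullbackPushforwardAdjunction i
  refine ⟨(adj.homEquiv _ _).symm β, fun U s => ?_⟩
  have a1 := (adj.homEquiv _ _).apply_symm_apply β
  rw [Adjunction.homEquiv_unit] at a1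
  exact congr(($a1).app U s)

/-- The zero derivation. -/
def zeroDer {X Y : Scheme.{u}} (f : X ⟶ Y) (M : X.Modules) : OmegaSh.Der f M where
  d {_} := 0
  d_mul _ _ := by simp
  d_map _ _ := (map_zero _).symm
  d_app _ := rfl

/-- Over an isomorphism the zero module is the module of differentials. -/
theorem isUniversal_zero {X Y : Scheme.{u}} (f : X ⟶ Y) [IsIso f] {M : X.Modules} (hM : IsZero M)
    (d : OmegaSh.Der f M) : OmegaSh.IsUniversal d := by
  intro N D
  have h0 : ∀ U a, D.app U a = 0 := by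
    intro U a
    obtain ⟨V, rfl⟩ : ∃ V, f ⁻¹ᵁ V = U :=
      ⟨(inv f) ⁻¹ᵁ U, by rw [← Scheme.Hom.comp_preimage, IsIso.hom_inv_id]; rfl⟩
    haveI : IsIso (f.app V) := inferInstance
    obtain ⟨c, rfl⟩ : ∃ c, f.app V c = a := ⟨inv (f.app V) a, by
      rw [← ConcreteCategory.comp_apply, IsIso.inv_hom_id]; rfl⟩
    exact D.d_app c
  refine ⟨0, OmegaLib.der_ext fun U a => ?_, fun β _ => hM.eq_of_src β 0⟩
  rw [h0]
  exact OmegaLib.postcomp_app _ _ U a

/-- For a section `i` of `f : X ⟶ S`, the conormal sheaf is `i^*Ω_{X/S}`. -/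
theorem nonempty_iso_conormal {X S : Scheme.{u}} (f : X ⟶ S) (i : S ⟶ X) [IsImmersion i] [QuasiCompact i]
    (hif : i ≫ f = 𝟙 S) {Ω : X.Modules} {d : OmegaSh.Der f Ω} (hd : OmegaSh.IsUniversal d) :
    Nonempty (Omega.conormal i ≅ (Scheme.Modules.pullback i).obj Ω) := by
  haveI : IsIso (i ≫ f) := by rw [hif]; infer_instance
  obtain ⟨φ, hφ⟩ := exists_conormalDiff i d
  obtain ⟨Z, hZ⟩ := HasZeroObject.zero (C := S.Modules)
  let dZ := zeroDer (i ≫ f) Z
  have hdZ := isUniversal_zero (i ≫ f) hZ dZ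
  obtain ⟨c, hc, -⟩ := OmegaLib.existsUnique_diffCompat (h := i) (b := 𝟙 S) (by simp) hd dZ
  obtain ⟨w, hex, ⟨r, hr⟩, -⟩ := split_exact hif (by rw [hif, Category.comp_id]) hd hdZ hφ hc
  haveI : Epi φ := hex.epi_f (hZ.eq_of_tgt c 0)
  haveI : IsSplitMono φ := ⟨⟨r, hr⟩⟩
  exact ⟨@asIso _ _ _ _ φ (isIso_of_mono_of_epi φ)⟩

end Groth.Agent.GrpOmega
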