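import Groth.Prelude.Def_PicLoc
import Groth.Agent.QC.AffineSpec
import Mathlib.AlgebraicGeometry.Modules.Tilde

/-!
# Quasi-coherent modules pulled back from the spectrum of a field are free
-/

universe u

open CategoryTheory CategoryTheory.Limits AlgebraicGeometry

set_option backward.isDefEq.respectTransparency false

noncomputable section

namespace Groth.Agent.GrpOmega

theorem exists_iso_coprod {K : Type u} [Field K] {X : Scheme.{u}} (g : X ⟶ Spec (CommRingCat.of K))
    (M : (Spec (CommRingCat.of K)).Modules) [M.IsQuasicoherent] :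
    ∃ I : Type u, Nonempty ((Scheme.Modules.pullback g).obj M ≅ ∐ fun _ : I => Coh.structureModule X) := by
  haveI := Scheme.Modules.isIso_fromTildeΓ_of_isQuasicoherent (R := CommRingCat.of K) M
  let V : ModuleCat.{u} K := (modulesSpecToSheaf.obj M).presheaf.obj (Opposite.op ⊤)
  let I := Module.Basis.ofVectorSpaceIndex K V
  let e : V ≅ ModuleCat.of K (I →₀ K) := (Module.Basis.ofVectorSpace K V).repr.toModuleIso
  let e₁ : M ≅ SheafOfModules.free.{u} I :=
    (@asIso _ _ _ _ (Scheme.Modules.fromTildeΓ (R := CommRingCat.of K) M)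
      (Scheme.Modules.isIso_fromTildeΓ_of_isQuasicoherent (R := CommRingCat.of K) M)).symm ≪≫ (tilde.functor (CommRingCat.of K)).mapIso e ≪≫ tildeFinsupp (R := CommRingCat.of K) I
  haveI : PreservesColimitsOfSize.{u, u} (Scheme.Modules.pullback g) :=
    (Scheme.Modules.pullbackPushforwardAdjunction g).leftAdjoint_preservesColimits
  refine ⟨I, ⟨(Scheme.Modules.pullback g).mapIso e₁ ≪≫ ?_⟩⟩
  exact (asIso (sigmaComparison (Scheme.Modules.pullback g)
      (fun _ : I => SheafOfModules.unit (Spec (CommRingCat.of K)).ringCatSheaf))).symm ≪≫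
    Sigma.mapIso (fun _ => PicLoc.pullbackStructureIso g)

end Groth.Agent.GrpOmega
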